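import Cfsg.Agent.Lib.RealAbove.Even
import Cfsg.Agent.Lib.PSolvableLinear.Main
import Cfsg.Agent.Lib.Blocks.Proj
import Cfsg.Agent.Lib.Blocks.Vanishing
import Cfsg.Agent.Lib.CharTheory.ExtCriteria
import Cfsg.Agent.Lib.Blocks.Orth

/-!
# A real character over a character of `2`-defect zero
-/

namespace CfsgLib.RealAbove

open Cfsg CfsgLib CfsgLib.CharTheory CfsgLib.Blocks
open scoped ComplexConjugate

set_option autoImplicit false
set_option linter.unusedSectionVars false
set_option linter.style.haveILetI false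

universe u

variable {G : Type u} [Group G] [Fintype G]

/-- A character of defect zero vanishes on singular elements. -/
theorem defect_zero_eq_zero {p : ℕ} [Fact p.Prime] (χ : IrrCharacter G)
    (hdef : p ^ (Nat.card G).factorization p ∣ charDegree (χ : G → ℂ)) {y : G} (hy : p ∣ orderOf y) :
    (χ : G → ℂ) y = 0 := by
  classical
  have hp : p.Prime := Fact.out
  obtain ⟨d, hd0, hd⟩ := irr_degree_pos χ.2
  have hdd : charDegree (χ : G → ℂ) = d := by simp [charDegree, hd]
  obtain ⟨M, hM⟩ := CfsgLib.Blocks.exists_isPModular hp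
  have hdv : dv p (χ : G → ℂ) = (Nat.card G).factorization p := by
    refine le_antisymm ?_ ?_
    · rw [dv, hdd]
      exact (Nat.factorization_le_iff_dvd (by omega) Nat.card_pos.ne').2 (hdd ▸ charDegree_dvd_card χ) p
    · rw [dv]
      exact (hp.pow_dvd_iff_le_factorization (by omega)).1 hdef
  have hB := (defect_zero_iff hM χ).1 hdv
  have hblock := blockOf_isPBlock (M := M) χ
  rw [hB] at hblock
  have hset : bset ({χ} : Set (IrrCharacter G)) = {χ} := by
    ext ψ; rw [mem_bset]; simp
  have h := weak_orth hM hblock (x := (1 : G)) (y := y)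
    (by rw [orderOf_one]; exact hp.not_dvd_one) hy
  rw [hset, Finset.sum_singleton] at h
  exact (mul_eq_zero.1 h).resolve_left (irr_ne_zero χ.2)

/-- The main statement. -/
theorem exists_real_over (N : Subgroup G) [N.Normal] [Fintype N] (h2 : IsPGroup 2 (G ⧸ N))
    (φ : IrrCharacter N) (hdef : 2 ^ (Nat.card N).factorization 2 ∣ charDegree (φ : N → ℂ))
    (hconj : ∃ g : G, ∀ n : N, conjNormFun N g (φ : N → ℂ) n = conj ((φ : N → ℂ) n)) :
    ∃ χ : IrrCharacter G, (Nat.card G : ℂ)⁻¹ * ∑ s : G, (χ : G → ℂ) (s * s) = 1 ∧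
      classInner (fun n : N => (χ : G → ℂ) n) (φ : N → ℂ) = 1 := by
  classical
  haveI : Fact (Nat.Prime 2) := ⟨Nat.prime_two⟩
  obtain ⟨P⟩ : Nonempty (Sylow 2 G) := inferInstance
  haveI := Fintype.ofFinite (P : Subgroup G)
  set one : ↥(P : Subgroup G) → ℂ := fun _ => 1 with hone
  have hind : IsCharacter G (indFun (P : Subgroup G) one) :=
    isCharacter_indFun _ (isCharacter_of_irr isIrrCharacter_one)
  set f := indFun (P : Subgroup G) one with hf
  obtain ⟨d, hd0, hd⟩ := irr_degree_pos φ.2
  have hdd : charDegree (φ : N → ℂ) = d := by simp [charDegree, hd]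
  -- the inner product with `φ`
  have hvan : ∀ n : N, n ≠ 1 → f n * conj ((φ : N → ℂ) n) = 0 := by
    intro n hn
    by_cases hodd : 2 ∣ orderOf n
    · rw [defect_zero_eq_zero φ hdef hodd, map_zero, mul_zero]
    · have h0 : f n = 0 := by
        rw [hf, indFun]
        refine mul_eq_zero_of_right _ (Finset.sum_eq_zero fun x _ => ?_)
        refine extendByZero_of_not_mem _ _ fun hmem => hn ?_
        obtain ⟨k, hk⟩ := P.2 ⟨_, hmem⟩
        have hk' : (x⁻¹ * (n : G) * x) ^ 2 ^ k = 1 := congrArg Subtype.val hk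
        have hco : (n : G) ^ 2 ^ k = 1 := by
          have e : (n : G) = x * (x⁻¹ * (n : G) * x) * x⁻¹ := by group
          rw [e, conj_pow, hk', mul_one, mul_inv_cancel]
        have h1 : orderOf n ∣ 2 ^ k := by
          rw [← Subgroup.orderOf_coe]; exact orderOf_dvd_of_pow_eq_one hco
        rw [← orderOf_eq_one_iff]
        exact Nat.eq_one_of_dvd_coprimes ((Nat.prime_two.coprime_iff_not_dvd.2 hodd).pow_left k) h1 dvd_rfl
      rw [h0, zero_mul]
  have hinner : classInner (fun n : N => f n) (φ : N → ℂ) =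
      ((P : Subgroup G).index : ℂ) * d / Nat.card N := by
    simp only [classInner]
    rw [Finset.sum_eq_single (1 : N) (fun n _ hn => hvan n hn) (by simp), OneMemClass.coe_one,
      hf, indFun_apply_one, hone, hd, Complex.conj_natCast, mul_one]
    ring
  obtain ⟨r, hr⟩ := classInner_char_nat (isCharacter_restrict hind N) (isCharacter_of_irr φ.2)
  -- parity
  obtain ⟨a, ha⟩ := IsPGroup.iff_card.1 h2
  have hr' : r * Nat.card N = (P : Subgroup G).index * d := by
    rw [hinner, div_eq_iff (Nat.cast_ne_zero.2 Nat.card_pos.ne')] at hr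
    exact_mod_cast hr.symm
  have hrodd : ¬ 2 ∣ r := by
    intro h2r
    have hdN : d ∣ Nat.card N := hdd ▸ charDegree_dvd_card φ
    have hfd : d.factorization 2 ≤ (Nat.card N).factorization 2 :=
      (Nat.factorization_le_iff_dvd (by omega) Nat.card_pos.ne').2 hdN 2
    have hr0 : r ≠ 0 := fun e => by
      rw [e, zero_mul] at hr'
      exact (Nat.mul_ne_zero Subgroup.index_ne_zero_of_finite (by omega)) hr'.symm
    have h1 := congrArg (fun m : ℕ => m.factorization 2) hr'
    simp only [Nat.factorization_mul hr0 Nat.card_pos.ne',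
      Nat.factorization_mul Subgroup.index_ne_zero_of_finite (show d ≠ 0 by omega), Finsupp.add_apply,
      Nat.factorization_eq_zero_of_not_dvd P.not_dvd_index] at h1
    have := (Nat.prime_two.dvd_iff_one_le_factorization hr0).1 h2r
    omega
  -- the expansion
  choose c hc using fun χ : IrrCharacter G => classInner_char_nat hind (isCharacter_of_irr χ.2)
  choose m hm using fun χ : IrrCharacter G =>
    classInner_char_nat (isCharacter_restrict (isCharacter_of_irr χ.2) N) (isCharacter_of_irr φ.2)
  have hsum : r = ∑ χ : IrrCharacter G, c χ * m χ := by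
    have h1 : (fun n : N => f n) = ∑ χ : IrrCharacter G, (c χ : ℂ) • fun n : N => (χ : G → ℂ) n := by
      funext n
      have := congrFun (eq_sum_irr (indFun_isClassFunction (P : Subgroup G) one)) (n : G)
      simp only [Finset.sum_apply, Pi.smul_apply, smul_eq_mul] at this ⊢
      rw [hf, this]
      exact Finset.sum_congr rfl fun χ _ => by rw [← hc χ]
    rw [h1, classInner_sum_left] at hr
    simp only [classInner_smul_left, hm] at hr
    exact_mod_cast hr.symm
  -- conjugation
  obtain ⟨g, hg⟩ := hconj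
  let bar : IrrCharacter G → IrrCharacter G := fun χ =>
    ⟨fun x => conj ((χ : G → ℂ) x), isIrrCharacter_conjChar χ.2⟩
  have hbar : ∀ χ, bar (bar χ) = χ := fun χ => Subtype.ext (funext fun x => Complex.conj_conj _)
  have hcbar : ∀ χ, c (bar χ) = c χ := fun χ => Nat.cast_injective (R := ℂ) (by
    rw [← hc, ← hc, hf, frobenius_reciprocity _ one (isClassFunction_irr (bar χ).2),
      frobenius_reciprocity _ one (isClassFunction_irr χ.2)]
    have hreal : classInner one (fun x : (P : Subgroup G) => (χ : G → ℂ) x) = (c χ : ℂ) := by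
      rw [← frobenius_reciprocity _ one (isClassFunction_irr χ.2), hc]
    rw [hreal, ← Complex.conj_natCast, ← hreal]
    simp only [classInner, hone, one_mul, bar, map_mul, map_inv₀, Complex.conj_natCast, map_sum])
  have hmbar : ∀ χ, m (bar χ) = m χ := fun χ => Nat.cast_injective (R := ℂ) (by
    rw [← hm, ← hm]
    have h1 : classInner (fun n : N => conj ((χ : G → ℂ) n)) (φ : N → ℂ) =
        conj (classInner (fun n : N => (χ : G → ℂ) n) (fun n => conj ((φ : N → ℂ) n))) := by
      simp only [classInner, map_mul, map_inv₀, Complex.conj_natCast, map_sum, Complex.conj_conj]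
    show classInner (fun n : N => conj ((χ : G → ℂ) n)) (φ : N → ℂ) = _
    rw [h1, ← funext hg, classInner_res_conjNormFun N g (isClassFunction_irr χ.2), hm, Complex.conj_natCast])
  obtain ⟨χ, hχfix, hχodd⟩ : ∃ χ, bar χ = χ ∧ ¬ 2 ∣ c χ * m χ := by
    by_contra hno
    push Not at hno
    apply hrodd
    rw [hsum, ← CharP.cast_eq_zero_iff (ZMod 2) 2, Nat.cast_sum]
    refine Finset.sum_involution (fun χ _ => bar χ) (fun χ _ => ?_) (fun χ _ hne hfix => ?_)
      (fun _ _ => Finset.mem_univ _) (fun χ _ => hbar χ)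
    · rw [hcbar, hmbar]
      exact CharTwo.add_self_eq_zero _
    · exact hne ((CharP.cast_eq_zero_iff (ZMod 2) 2 _).2 (hno χ hfix))
  have hcodd : ¬ 2 ∣ c χ := fun h => hχodd (dvd_mul_of_dvd_left h _)
  have hmodd : ¬ 2 ∣ m χ := fun h => hχodd (dvd_mul_of_dvd_right h _)
  refine ⟨χ, ?_, ?_⟩
  · by_contra hne
    refine hcodd (even_iff_two_dvd.1 (even_fixed χ.2 (fun x => congrFun (congrArg Subtype.val hχfix) x) hne
      (P : Subgroup G) ?_))
    have h1 := hc χ
    rw [hf, frobenius_reciprocity _ one (isClassFunction_irr χ.2), ← classInner_comm] at h1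
    have h2 := congrArg conj h1
    rw [Complex.conj_conj, Complex.conj_natCast] at h2
    rw [← h2]
    simp only [classInner, hone, map_one, mul_one]
  · have hm0 : classInner (fun n : N => (χ : G → ℂ) n) (φ : N → ℂ) ≠ 0 := by
      rw [hm]; exact Nat.cast_ne_zero.2 fun e => hmodd (e ▸ dvd_zero 2)
    obtain ⟨e, he, hedvd⟩ := degree_ratio_dvd χ.2 φ.2 hm0
    have hcl := clifford_degree N χ.2 φ.2 hm0
    rw [he, hm] at hcl
    have hme : e = m χ * (inertia N (φ : N → ℂ)).index := by
      have := mul_right_cancel₀ (irr_ne_zero φ.2) hcl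
      exact_mod_cast this
    have hmdvd : m χ ∣ 2 ^ a := by
      rw [← ha]
      exact (hme ▸ dvd_mul_right (m χ) _ : m χ ∣ e).trans hedvd
    obtain ⟨i, -, hi⟩ := (Nat.dvd_prime_pow Nat.prime_two).1 hmdvd
    rw [hm, hi]
    rcases Nat.eq_zero_or_pos i with rfl | hi0
    · simp
    · exact absurd (hi ▸ dvd_pow_self 2 hi0.ne') hmodd

end CfsgLib.RealAbove
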