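import Cfsg.Agent.Lib.RealAbove.Even
import Cfsg.Agent.Lib.PSolvableLinear.Main
import Cfsg.Agent.Lib.CharTheory.AbelianInertia
import Cfsg.Agent.Lib.Blocks.DefectZeroProducts

/-!
# The average real even degree of a group with an odd minimal normal subgroup and a 2-complement
-/

namespace CfsgLib.RealAbove

open Cfsg CfsgLib CfsgLib.CharTheory CfsgLib.Blocks CfsgLib.PSolvableLinear
open scoped ComplexConjugate

set_option autoImplicit false
set_option linter.unusedSectionVars false
set_option linter.style.haveILetI false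

universe u

variable {G : Type u} [Group G] [Fintype G]

/-- Some constituent of the permutation character is real, of even degree and of indicator one. -/
theorem exists_real_even (N P : Subgroup G) [hN : N.Normal] [Fintype N] [Fintype P]
    (hab : ∀ a ∈ N, ∀ b ∈ N, a * b = b * a) (hodd : Odd (Nat.card N)) (hP : IsPGroup 2 P)
    (hP1 : P ≠ ⊥) (hdisj : N ⊓ P = ⊥) (hprod : N ⊔ P = ⊤) (hN1 : N ≠ ⊥)
    (hmin : ∀ M : Subgroup G, M.Normal → M ≠ ⊥ → N ≤ M) :
    ∃ χ : IrrCharacter G, (Nat.card G : ℂ)⁻¹ * ∑ s : G, (χ : G → ℂ) (s * s) = 1 ∧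
      2 ∣ charDegree (χ : G → ℂ) ∧ classInner (fun x : P => (χ : G → ℂ) x) (fun _ => 1) = 1 := by
  classical
  haveI : Fact (Nat.Prime 2) := ⟨Nat.prime_two⟩
  haveI : Nontrivial P := (Subgroup.nontrivial_iff_ne_bot P).2 hP1
  have hgen : ∀ g : G, ∃ n ∈ N, ∃ y ∈ P, g = n * y := fun g => by
    have hg : g ∈ ((N ⊔ P : Subgroup G) : Set G) := hprod ▸ Subgroup.mem_top g
    rw [Subgroup.normal_mul] at hg
    obtain ⟨n, hn, y, hy, rfl⟩ := hg
    exact ⟨n, hn, y, hy, rfl⟩
  obtain ⟨a, hP2⟩ := IsPGroup.iff_card.1 hP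
  have hidx : N.index = 2 ^ a := by
    rw [← hP2]
    refine Subgroup.IsComplement'.index_eq_card (Subgroup.isComplement'_of_disjoint_and_mul_eq_univ
      (disjoint_iff.2 ((inf_comm P N).trans hdisj)) (Set.eq_univ_of_forall fun g => ?_))
    obtain ⟨n, hn, y, hy, rfl⟩ := hgen g
    exact ⟨y, hy, y⁻¹ * n * y, by simpa using hN.conj_mem n hn y⁻¹, by group⟩
  -- a central involution inverts `N`
  haveI : Nontrivial (Subgroup.center P) := hP.center_nontrivial
  obtain ⟨z, hz⟩ := exists_prime_orderOf_dvd_card' (G := Subgroup.center P) 2 (by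
    obtain ⟨k, hk0, hk⟩ := (IsPGroup.nontrivial_iff_card (hP.to_subgroup (Subgroup.center P))).1 inferInstance
    rw [hk]
    exact dvd_pow_self 2 (by omega))
  set zG : G := ((z : P) : G) with hzG
  have hzord : orderOf zG = 2 := by rw [hzG, Subgroup.orderOf_coe, Subgroup.orderOf_coe, hz]
  have hzP : ∀ y ∈ P, y * zG = zG * y := fun y hy =>
    congrArg Subtype.val (Subgroup.mem_center_iff.1 z.2 ⟨y, hy⟩)
  set F := N ⊓ Subgroup.centralizer ({zG} : Set G) with hF
  have hFn : F.Normal := by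
    refine ⟨fun f hf g => ?_⟩
    obtain ⟨n, hn, y, hy, rfl⟩ := hgen g
    have h1 : y * f * y⁻¹ ∈ F := by
      refine Subgroup.mem_inf.2 ⟨hN.conj_mem f (Subgroup.mem_inf.1 hf).1 y, ?_⟩
      rw [Subgroup.mem_centralizer_singleton_iff]
      have h2 : f * zG = zG * f := Subgroup.mem_centralizer_singleton_iff.1 (Subgroup.mem_inf.1 hf).2
      calc y * f * y⁻¹ * zG = y * f * (y⁻¹ * zG) := by group
        _ = y * f * (zG * y⁻¹) := by rw [hzP y⁻¹ (inv_mem hy)]
        _ = y * (f * zG) * y⁻¹ := by group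
        _ = y * (zG * f) * y⁻¹ := by rw [h2]
        _ = (y * zG) * f * y⁻¹ := by group
        _ = (zG * y) * f * y⁻¹ := by rw [hzP y hy]
        _ = zG * (y * f * y⁻¹) := by group
    have h3 : n * y * f * (n * y)⁻¹ = y * f * y⁻¹ := by
      rw [show n * y * f * (n * y)⁻¹ = n * (y * f * y⁻¹) * n⁻¹ by group, hab n hn _ (Subgroup.mem_inf.1 h1).1]
      group
    rw [h3]; exact h1
  have hFbot : F = ⊥ := by
    by_contra hne
    have hcent : N ≤ Subgroup.centralizer ({zG} : Set G) := (hmin F hFn hne).trans inf_le_right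
    have hzc : zG ∈ Subgroup.center G := by
      rw [Subgroup.mem_center_iff]
      intro g
      obtain ⟨n, hn, y, hy, rfl⟩ := hgen g
      rw [mul_assoc, hzP y hy, ← mul_assoc, Subgroup.mem_centralizer_singleton_iff.1 (hcent hn), mul_assoc]
    have hz1 : Subgroup.zpowers zG ≠ ⊥ := by
      intro h
      rw [Subgroup.zpowers_eq_bot] at h
      rw [h, orderOf_one] at hzord
      omega
    have hzn : (Subgroup.zpowers zG).Normal := ⟨fun u hu g => by
      obtain ⟨i, rfl⟩ := Subgroup.mem_zpowers_iff.1 hu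
      rw [Subgroup.mem_center_iff.1 (zpow_mem hzc i) g, mul_inv_cancel_right]
      exact zpow_mem (Subgroup.mem_zpowers zG) i⟩
    apply hN1
    rw [eq_bot_iff, ← hdisj]
    exact le_inf le_rfl ((hmin _ hzn hz1).trans (Subgroup.zpowers_le.2 (z : P).2))
  have hinvz : ∀ n ∈ N, zG * n * zG⁻¹ = n⁻¹ := by
    intro n hn
    have hzz : zG * zG = 1 := by rw [← pow_two, ← hzord, pow_orderOf_eq_one]
    have hzi : zG⁻¹ = zG := inv_eq_of_mul_eq_one_right hzz
    have h1 : n * (zG * n * zG⁻¹) ∈ F := by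
      refine Subgroup.mem_inf.2 ⟨mul_mem hn (hN.conj_mem n hn zG), ?_⟩
      rw [Subgroup.mem_centralizer_singleton_iff]
      have h2 := hab (zG * n * zG⁻¹) (hN.conj_mem n hn zG) n hn
      rw [hzi] at h2 ⊢
      calc n * (zG * n * zG) * zG = n * (zG * n) * (zG * zG) := by group
        _ = zG * ((zG * n * zG) * n) * 1⁻¹ := by
          rw [hzz, show zG * ((zG * n * zG) * n) = (zG * zG) * (n * (zG * n)) by group, hzz]; group
        _ = zG * (n * (zG * n * zG)) := by rw [h2]; group
    rw [hFbot, Subgroup.mem_bot] at h1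
    exact (inv_eq_of_mul_eq_one_right h1).symm
  -- the constituents
  set one : P → ℂ := fun _ => 1 with hone
  have hind : IsCharacter G (indFun P one) := isCharacter_indFun _ (isCharacter_of_irr isIrrCharacter_one)
  have hNcomm : ∀ u v : N, u * v = v * u := fun u v => Subtype.ext (hab u u.2 v v.2)
  haveI : Nontrivial N := (Subgroup.nontrivial_iff_ne_bot N).2 hN1
  obtain ⟨lam, hlam⟩ : ∃ lam : IrrCharacter N, (lam : N → ℂ) ≠ fun _ => 1 := by
    by_contra hno
    push Not at hno
    obtain ⟨n, hn⟩ := exists_ne (1 : N)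
    refine hn (isConj_one_right.1 (IsConj.symm (isConj_of_forall_irr (g := n) (h := 1) fun α => ?_)))
    rw [hno α]
  have hlam1 : (lam : N → ℂ) 1 = 1 := degree_one_of_commutative hNcomm lam.2
  have hval : ∀ n : N, indFun P one n = if n = 1 then (P.index : ℂ) else 0 := by
    intro n
    split_ifs with h
    · rw [h, OneMemClass.coe_one, indFun_apply_one, hone, mul_one]
    · rw [indFun]
      refine mul_eq_zero_of_right _ (Finset.sum_eq_zero fun x _ => ?_)
      refine extendByZero_of_not_mem _ _ fun hmem => h ?_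
      have h1 : x⁻¹ * (n : G) * x = 1 := by
        rw [← Subgroup.mem_bot, ← hdisj]
        exact Subgroup.mem_inf.2 ⟨by simpa using hN.conj_mem n n.2 x⁻¹, hmem⟩
      apply Subtype.ext
      rw [OneMemClass.coe_one, show (n : G) = x * (x⁻¹ * n * x) * x⁻¹ by group, h1]
      group
  have hPidx : P.index = Nat.card N := by
    have h1 := P.card_mul_index
    rw [← N.card_mul_index, hidx, hP2, mul_comm] at h1
    exact Nat.eq_of_mul_eq_mul_right (pow_pos two_pos a) h1
  have hreg : classInner (fun n : N => indFun P one n) (lam : N → ℂ) = 1 := by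
    simp only [classInner, hval]
    rw [Finset.sum_eq_single (1 : N) (fun n _ hn => by rw [if_neg hn, zero_mul]) (by simp), if_pos rfl, hlam1,
      map_one, mul_one, hPidx, inv_mul_cancel₀ (Nat.cast_ne_zero.2 Nat.card_pos.ne')]
  choose c hc using fun χ : IrrCharacter G => classInner_char_nat hind (isCharacter_of_irr χ.2)
  choose m hm using fun χ : IrrCharacter G =>
    classInner_char_nat (isCharacter_restrict (isCharacter_of_irr χ.2) N) (isCharacter_of_irr lam.2)
  have hsum : (1 : ℕ) = ∑ χ : IrrCharacter G, c χ * m χ := by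
    have h1 : (fun n : N => indFun P one n) = ∑ χ : IrrCharacter G, (c χ : ℂ) • fun n : N => (χ : G → ℂ) n := by
      funext n
      have := congrFun (eq_sum_irr (indFun_isClassFunction P one)) (n : G)
      simp only [Finset.sum_apply, Pi.smul_apply, smul_eq_mul] at this ⊢
      rw [this]
      exact Finset.sum_congr rfl fun χ _ => by rw [← hc χ]
    rw [h1, classInner_sum_left] at hreg
    simp only [classInner_smul_left, hm] at hreg
    exact_mod_cast hreg.symm
  obtain ⟨χ, -, hχ⟩ := Finset.exists_ne_zero_of_sum_ne_zero (hsum ▸ one_ne_zero : ∑ χ : IrrCharacter G, c χ * m χ ≠ 0)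
  have hcm : c χ * m χ = 1 := by
    have h1 := Finset.single_le_sum (f := fun χ => c χ * m χ) (fun _ _ => Nat.zero_le _) (Finset.mem_univ χ)
    rw [← hsum] at h1
    exact le_antisymm h1 (Nat.pos_of_ne_zero hχ)
  have hcχ : c χ = 1 := (mul_eq_one.1 hcm).1
  have hmχ : m χ = 1 := (mul_eq_one.1 hcm).2
  have hcP : classInner (fun x : P => (χ : G → ℂ) x) (fun _ => 1) = 1 := by
    have h1 := hc χ
    rw [frobenius_reciprocity P one (isClassFunction_irr χ.2), ← classInner_comm, hcχ] at h1
    have h2 := congrArg conj h1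
    rw [Complex.conj_conj, Nat.cast_one, map_one] at h2
    exact h2
  -- it is real
  have hbar : (fun g => conj ((χ : G → ℂ) g)) = (χ : G → ℂ) := by
    set χ' : IrrCharacter G := ⟨_, isIrrCharacter_conjChar χ.2⟩ with hχ'
    by_contra hne
    have hc' : c χ' = 1 := Nat.cast_injective (R := ℂ) (by
      rw [← hc χ', frobenius_reciprocity P one (isClassFunction_irr χ'.2), Nat.cast_one]
      have : classInner one (fun x : P => (χ' : G → ℂ) x) = classInner (fun x : P => (χ : G → ℂ) x) (fun _ => 1) := by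
        simp only [classInner, hone, χ', Complex.conj_conj, one_mul, map_one, mul_one]
      exact this.trans hcP)
    have hm' : m χ' ≠ 0 := by
      intro h0
      have h1 := hm χ'
      rw [h0, Nat.cast_zero] at h1
      have hlc : conjNormFun N zG (lam : N → ℂ) = fun n => conj ((lam : N → ℂ) n) := funext fun n => by
        show (lam : N → ℂ) ⟨zG * n * zG⁻¹, _⟩ = _
        rw [show (⟨zG * n * zG⁻¹, hN.conj_mem n n.2 zG⟩ : N) = n⁻¹ from Subtype.ext (hinvz n n.2)]
        obtain ⟨f, hf⟩ := exists_hom_of_degree_one (isCharacter_of_irr lam.2) hlam1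
        rw [hf]
        show ((f n⁻¹ : ℂˣ) : ℂ) = conj ((f n : ℂˣ) : ℂ)
        rw [map_inv, Units.val_inv_eq_inv_val, Complex.inv_eq_conj]
        exact Complex.norm_eq_one_of_pow_eq_one (by rw [← Units.val_pow_eq_pow_val, ← map_pow,
          pow_orderOf_eq_one, map_one, Units.val_one]) (orderOf_pos n).ne'
      have h2 : classInner (fun n : N => (χ' : G → ℂ) n) (lam : N → ℂ) =
          conj (classInner (fun n : N => (χ : G → ℂ) n) (fun n => conj ((lam : N → ℂ) n))) := by
        simp only [classInner, χ', map_mul, map_inv₀, Complex.conj_natCast, map_sum, Complex.conj_conj]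
      rw [h2, ← hlc, classInner_res_conjNormFun N zG (isClassFunction_irr χ.2), hm, hmχ, Nat.cast_one, map_one] at h1
      exact one_ne_zero h1
    have h1 := Finset.add_le_sum (f := fun χ => c χ * m χ) (fun _ _ => Nat.zero_le _)
      (Finset.mem_univ χ) (Finset.mem_univ χ') (fun e => hne (congrArg Subtype.val e).symm)
    rw [← hsum, hcm, hc', one_mul] at h1
    omega
  -- the degree
  have hm1 : classInner (fun n : N => (χ : G → ℂ) n) (lam : N → ℂ) ≠ 0 := by
    rw [hm, hmχ, Nat.cast_one]; exact one_ne_zero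
  have hdeg := clifford_degree N χ.2 lam.2 hm1
  rw [← irr_charDegree_cast, hm, hmχ, hlam1, Nat.cast_one, one_mul, mul_one, Nat.cast_inj] at hdeg
  obtain ⟨i, -, hi⟩ := (Nat.dvd_prime_pow Nat.prime_two).1
    (hidx ▸ Subgroup.index_dvd_of_le (le_inertia N (isClassFunction_irr lam.2)))
  refine ⟨χ, ?_, ?_, hcP⟩
  · by_contra hne
    have h1 := even_fixed χ.2 (fun g => congrFun hbar g) hne P (c := 1) (by
      rw [Nat.cast_one, ← hcP]
      simp only [classInner, map_one, mul_one])
    exact Nat.not_even_one h1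
  · rw [hdeg, hi]
    refine dvd_pow_self 2 fun hi0 => hlam ?_
    rw [hi0, pow_zero] at hi
    have hinv := (mem_inertia N).1 (Subgroup.index_eq_one.1 hi ▸ Subgroup.mem_top zG)
    funext n
    obtain ⟨f, hf⟩ := exists_hom_of_degree_one (isCharacter_of_irr lam.2) hlam1
    have h1 := congrFun hinv n
    simp only [conjNormFun] at h1
    rw [show (⟨zG * n * zG⁻¹, hN.conj_mem n n.2 zG⟩ : N) = n⁻¹ from Subtype.ext (hinvz n n.2), hf] at h1
    have h2 : f n⁻¹ = f n := Units.ext h1
    have h3 : f n ^ 2 = 1 := by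
      rw [map_inv] at h2
      rw [pow_two]
      nth_rewrite 1 [← h2]
      exact inv_mul_cancel (f n)
    have h4 : f n = 1 := by
      rw [← orderOf_eq_one_iff]
      refine Nat.eq_one_of_dvd_coprimes (Nat.coprime_two_left.2 hodd) (orderOf_dvd_of_pow_eq_one h3) ?_
      exact (orderOf_map_dvd f n).trans (orderOf_dvd_natCard n)
    rw [hf]
    show ((f n : ℂˣ) : ℂ) = 1
    rw [h4, Units.val_one]

/-- The inequality. -/
theorem average_bound (N P : Subgroup G) [N.Normal] [Fintype N] [Fintype P]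
    (hab : ∀ a ∈ N, ∀ b ∈ N, a * b = b * a) (hodd : Odd (Nat.card N)) (hP : IsPGroup 2 P)
    (hP1 : P ≠ ⊥) (hdisj : N ⊓ P = ⊥) (hprod : N ⊔ P = ⊤) (hN1 : N ≠ ⊥)
    (hmin : ∀ M : Subgroup G, M.Normal → M ≠ ⊥ → N ≤ M) (p : IrrCharacter G → Prop) [DecidablePred p]
    (hp : ∀ χ : IrrCharacter G, p χ ↔ (charDegree (χ : G → ℂ) = 1 ∨ 2 ∣ charDegree (χ : G → ℂ)) ∧
      (Nat.card G : ℂ)⁻¹ * ∑ s : G, (χ : G → ℂ) (s * s) = 1) :
    4 * (Finset.univ.filter p).card ≤ 3 * ∑ χ ∈ Finset.univ.filter p, charDegree (χ : G → ℂ) := by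
  classical
  obtain ⟨χ₀, hν, heven, hfix⟩ := exists_real_even N P hab hodd hP hP1 hdisj hprod hN1 hmin
  set L := (Finset.univ.filter p).filter fun μ : IrrCharacter G => charDegree (μ : G → ℂ) = 1 with hL
  set E := (Finset.univ.filter p).filter fun μ : IrrCharacter G => ¬ charDegree (μ : G → ℂ) = 1 with hE
  -- linear characters of indicator one
  have hsq : ∀ μ ∈ L, ∀ g, (μ : G → ℂ) g * (μ : G → ℂ) g = 1 := by
    intro μ hμ g
    obtain ⟨hμp, hμ1⟩ := Finset.mem_filter.1 hμ
    obtain ⟨f, hf⟩ := exists_hom_of_degree_one (isCharacter_of_irr μ.2)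
      (by rw [← irr_charDegree_cast, hμ1, Nat.cast_one])
    have h2 := ((hp μ).1 (Finset.mem_filter.1 hμp).2).2
    rw [hf] at h2 ⊢
    have h3 : classInner (fun x => (((f * f) x : ℂˣ) : ℂ)) (fun _ => 1) = 1 := by
      simp only [classInner, map_one, mul_one, MonoidHom.mul_apply, ← map_mul]
      exact h2
    by_contra hne
    have hne2 : (fun x => (((f * f) x : ℂˣ) : ℂ)) ≠ fun _ => 1 := fun e => hne (by
      have := congrFun e g
      simpa using this)
    rw [classInner_irr_ne (isIrrCharacter_linear (f * f)) isIrrCharacter_one hne2] at h3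
    exact zero_ne_one h3
  have hlin : ∀ μ ∈ L, (μ : G → ℂ) 1 = 1 := fun μ hμ => by
    rw [← irr_charDegree_cast, (Finset.mem_filter.1 hμ).2, Nat.cast_one]
  let tw : IrrCharacter G → IrrCharacter G := fun μ =>
    if h : (μ : G → ℂ) 1 = 1 then ⟨(χ₀ : G → ℂ) * (μ : G → ℂ), isIrrCharacter_mul_linear χ₀.2 μ.2 h⟩ else μ
  have htw : ∀ μ ∈ L, ((tw μ : IrrCharacter G) : G → ℂ) = (χ₀ : G → ℂ) * (μ : G → ℂ) := fun μ hμ => by
    simp only [tw, dif_pos (hlin μ hμ)]
  have hdegtw : ∀ μ ∈ L, charDegree ((tw μ : IrrCharacter G) : G → ℂ) = charDegree (χ₀ : G → ℂ) := by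
    intro μ hμ
    have h : (((charDegree ((tw μ : IrrCharacter G) : G → ℂ)) : ℕ) : ℂ) = (charDegree (χ₀ : G → ℂ) : ℂ) := by
      rw [irr_charDegree_cast, irr_charDegree_cast, htw μ hμ, Pi.mul_apply, hlin μ hμ, mul_one]
    exact_mod_cast h
  have hd2 : 2 ≤ charDegree (χ₀ : G → ℂ) := by
    obtain ⟨d, hd0, hd⟩ := irr_degree_pos χ₀.2
    have hdd : charDegree (χ₀ : G → ℂ) = d := by simp [charDegree, hd]
    exact Nat.le_of_dvd (by omega) heven
  have htwE : ∀ μ ∈ L, tw μ ∈ E := by
    intro μ hμ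
    refine Finset.mem_filter.2 ⟨Finset.mem_filter.2 ⟨Finset.mem_univ _, (hp _).2 ⟨Or.inr (hdegtw μ hμ ▸ heven), ?_⟩⟩, ?_⟩
    · rw [htw μ hμ, ← hν]
      congr 1
      refine Finset.sum_congr rfl fun s _ => ?_
      obtain ⟨f, hf⟩ := exists_hom_of_degree_one (isCharacter_of_irr μ.2) (hlin μ hμ)
      rw [Pi.mul_apply, show (μ : G → ℂ) (s * s) = 1 by
        rw [← hsq μ hμ s, hf]; show ((f (s * s) : ℂˣ) : ℂ) = _; rw [map_mul, Units.val_mul], mul_one]
    · rw [hdegtw μ hμ]; omega
  -- the fibres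
  have hfib : ∀ ψ ∈ L.image tw, (L.filter fun μ => tw μ = ψ).card ≤ charDegree (ψ : G → ℂ) := by
    intro ψ _
    obtain ⟨d, hdsum, hdn⟩ := res_decomp (isCharacter_of_irr ψ.2) P (irr_charDegree_cast ψ).symm
    let res : IrrCharacter G → IrrCharacter P := fun μ =>
      if h : IsIrrCharacter P (fun x : P => (μ : G → ℂ) x) then ⟨_, h⟩
      else ⟨fun _ => 1, isIrrCharacter_one⟩
    have hresirr : ∀ μ ∈ L, IsIrrCharacter P (fun x : P => (μ : G → ℂ) x) := fun μ hμ =>
      isIrrCharacter_of_degree_one (isCharacter_restrict (isCharacter_of_irr μ.2) P) (hlin μ hμ)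
    have hres : ∀ μ ∈ L, ((res μ : IrrCharacter P) : P → ℂ) = fun x : P => (μ : G → ℂ) x := fun μ hμ => by
      simp only [res, dif_pos (hresirr μ hμ)]
    have hone1 : ∀ μ ∈ (L.filter fun μ => tw μ = ψ), 1 ≤ d (res μ) := by
      intro μ hμ
      obtain ⟨hμL, hμe⟩ := Finset.mem_filter.1 hμ
      have h1 : classInner (fun x : P => (ψ : G → ℂ) x) ((res μ : IrrCharacter P) : P → ℂ) = 1 := by
        rw [← hμe, htw μ hμL, hres μ hμL, ← hfix]
        simp only [classInner, Pi.mul_apply, map_one, mul_one]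
        congr 1
        refine Finset.sum_congr rfl fun x _ => ?_
        obtain ⟨f, hf⟩ := exists_hom_of_degree_one (isCharacter_of_irr μ.2) (hlin μ hμL)
        have hn : ‖(f (x : G) : ℂ)‖ = 1 := Complex.norm_eq_one_of_pow_eq_one (by
          rw [← Units.val_pow_eq_pow_val, ← map_pow, pow_orderOf_eq_one, map_one, Units.val_one]) (orderOf_pos (x : G)).ne'
        rw [hf, mul_assoc, Complex.mul_conj', hn]
        norm_num
      rw [show (fun x : P => (ψ : G → ℂ) x) = ∑ β : IrrCharacter P, (d β : ℂ) • (β : P → ℂ) from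
        funext fun u => by rw [hdsum]; simp [Finset.sum_apply], classInner_sum_left,
        Finset.sum_eq_single (res μ), classInner_smul_left, classInner_irr_self (res μ).2, mul_one] at h1
      · exact le_of_eq (by exact_mod_cast h1.symm)
      · intro β _ hb
        rw [classInner_smul_left, classInner_irr_ne β.2 (res μ).2 (fun e => hb (Subtype.ext e)), mul_zero]
      · simp
    have hinj : Set.InjOn res (L.filter fun μ => tw μ = ψ) := by
      intro μ hμ μ' hμ' he
      have hμL := (Finset.mem_filter.1 hμ).1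
      have hμ'L := (Finset.mem_filter.1 hμ').1
      have he' := congrArg (fun β : IrrCharacter P => (β : P → ℂ)) he
      simp only [hres μ hμL, hres μ' hμ'L] at he'
      refine Subtype.ext (funext fun g => ?_)
      have hg : g ∈ ((N ⊔ P : Subgroup G) : Set G) := hprod ▸ Subgroup.mem_top g
      rw [Subgroup.normal_mul] at hg
      obtain ⟨n, hn, y, hy, rfl⟩ := hg
      have hNtriv : ∀ ν ∈ L, (ν : G → ℂ) (n * y) = (ν : G → ℂ) y := by
        intro ν hν'
        obtain ⟨f, hf⟩ := exists_hom_of_degree_one (isCharacter_of_irr ν.2) (hlin ν hν')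
        have h2 : f n ^ 2 = 1 := Units.ext (by
          have := hsq ν hν' n
          rw [hf] at this
          rw [pow_two, Units.val_mul, Units.val_one]
          exact this)
        have h4 : f n = 1 := by
          rw [← orderOf_eq_one_iff]
          exact Nat.eq_one_of_dvd_coprimes (Nat.coprime_two_left.2 hodd) (orderOf_dvd_of_pow_eq_one h2)
            ((orderOf_map_dvd f n).trans (Subgroup.orderOf_dvd_natCard N hn))
        rw [hf]
        show ((f (n * y) : ℂˣ) : ℂ) = ((f y : ℂˣ) : ℂ)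
        rw [map_mul, h4, one_mul]
      rw [hNtriv μ hμL, hNtriv μ' hμ'L]
      exact congrFun he' ⟨y, hy⟩
    calc (L.filter fun μ => tw μ = ψ).card = ((L.filter fun μ => tw μ = ψ).image res).card :=
          (Finset.card_image_of_injOn hinj).symm
      _ = ∑ _β ∈ (L.filter fun μ => tw μ = ψ).image res, 1 := Finset.card_eq_sum_ones _
      _ ≤ ∑ β ∈ (L.filter fun μ => tw μ = ψ).image res, d β * charDegree (β : P → ℂ) := by
          refine Finset.sum_le_sum fun β hβ => ?_
          obtain ⟨μ, hμ, rfl⟩ := Finset.mem_image.1 hβ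
          obtain ⟨e, he0, he⟩ := irr_degree_pos (res μ).2
          have hee : charDegree ((res μ : IrrCharacter P) : P → ℂ) = e := by simp [charDegree, he]
          rw [hee]
          exact Nat.one_le_iff_ne_zero.2 (Nat.mul_ne_zero (by have := hone1 μ hμ; omega) (by omega))
      _ ≤ ∑ β : IrrCharacter P, d β * charDegree (β : P → ℂ) :=
          Finset.sum_le_univ_sum_of_nonneg fun _ => Nat.zero_le _
      _ = charDegree (ψ : G → ℂ) := hdn.symm
  have hLle : L.card ≤ ∑ χ ∈ E, charDegree (χ : G → ℂ) := by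
    rw [Finset.card_eq_sum_card_image tw L]
    refine (Finset.sum_le_sum hfib).trans (Finset.sum_le_sum_of_subset fun ψ hψ => ?_)
    obtain ⟨μ, hμ, rfl⟩ := Finset.mem_image.1 hψ
    exact htwE μ hμ
  have hEle : E.card * 2 ≤ ∑ χ ∈ E, charDegree (χ : G → ℂ) := by
    rw [← smul_eq_mul]
    refine Finset.card_nsmul_le_sum E _ 2 fun χ hχ => ?_
    obtain ⟨h1, h2⟩ := Finset.mem_filter.1 hχ
    have h3 := ((hp χ).1 (Finset.mem_filter.1 h1).2).1.resolve_left h2
    obtain ⟨d, hd0, hd⟩ := irr_degree_pos χ.2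
    have hdd : charDegree (χ : G → ℂ) = d := by simp [charDegree, hd]
    exact Nat.le_of_dvd (by omega) h3
  have hsplit := Finset.card_filter_add_card_filter_not (s := Finset.univ.filter p)
    (fun μ : IrrCharacter G => charDegree (μ : G → ℂ) = 1)
  have hsum := Finset.sum_filter_add_sum_filter_not (Finset.univ.filter p)
    (fun μ : IrrCharacter G => charDegree (μ : G → ℂ) = 1) (fun χ => charDegree (χ : G → ℂ))
  have hLsum : ∑ χ ∈ L, charDegree (χ : G → ℂ) = L.card := by
    rw [Finset.card_eq_sum_ones]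
    exact Finset.sum_congr rfl fun χ hχ => (Finset.mem_filter.1 hχ).2
  rw [← hL, ← hE] at hsplit hsum
  omega

end CfsgLib.RealAbove
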