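import Cfsg.Agent.Lib.CharTheory.BilinearIndicator
import Cfsg.Agent.Lib.CharTheory.Irr

/-!
# A character of symplectic type has an even trivial multiplicity on every subgroup
-/

namespace CfsgLib.RealAbove

open Cfsg CfsgLib CfsgLib.CharTheory Matrix
open scoped ComplexConjugate

set_option autoImplicit false
set_option linter.unusedSectionVars false
set_option linter.style.haveILetI false

universe u

variable {G : Type u} [Group G] [Fintype G]

/-- An invertible skew matrix has even size. -/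
theorem even_card_of_skew {ι : Type*} [Fintype ι] [DecidableEq ι] {A : Matrix ι ι ℂ} (h : IsUnit A)
    (hA : Aᵀ = -A) : Even (Fintype.card ι) := by
  have h1 := congrArg Matrix.det hA
  rw [Matrix.det_transpose, Matrix.det_neg] at h1
  have h2 : A.det ≠ 0 := ((Matrix.isUnit_iff_isUnit_det A).1 h).ne_zero
  rcases Nat.even_or_odd (Fintype.card ι) with he | ho
  · exact he
  · exfalso
    rw [ho.neg_one_pow, neg_one_mul] at h1
    exact h2 (self_eq_neg.1 h1)

/-- The multiplicity of the trivial character in a restriction, for indicator different from `1`. -/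
theorem even_fixed {χ : G → ℂ} (hχ : IsIrrCharacter G χ) (hreal : ∀ g, conj (χ g) = χ g)
    (hne : (Nat.card G : ℂ)⁻¹ * ∑ s : G, χ (s * s) ≠ 1) (P : Subgroup G) [Fintype P] {c : ℕ}
    (hc : (Nat.card P : ℂ)⁻¹ * ∑ x : P, χ x = (c : ℂ)) : Even c := by
  classical
  obtain ⟨n, ρ, hirr, rfl⟩ := id hχ
  haveI := hirr
  set b := Pi.basisFun ℂ (Fin n) with hb
  have hsq : ∑ s : G, ρ.character s * ρ.character s ≠ 0 := by
    have h1 := classInner_irr_self hχ
    simp only [classInner, hreal] at h1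
    intro h
    rw [h, mul_zero] at h1
    exact one_ne_zero h1.symm
  obtain ⟨B, ε, hε, hB, hBT, hν⟩ := invariant_form_symmetry ρ b (by simp) hsq
  have hε1 : ε = -1 := hε.resolve_left fun e => hne (by
    rw [hν, e, one_mul, inv_mul_cancel₀ (Nat.cast_ne_zero.2 Nat.card_pos.ne')])
  subst hε1
  set r : G → Matrix (Fin n) (Fin n) ℂ := fun g => LinearMap.toMatrix b b (ρ g) with hr
  have hrmul : ∀ g h, r (g * h) = r g * r h := fun g h => by
    simp only [hr, map_mul]
    exact LinearMap.toMatrix_mul b (ρ g) (ρ h)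
  have hr1 : r 1 = 1 := by simp only [hr, map_one]; exact LinearMap.toMatrix_one b
  -- the projection
  set π : (Fin n → ℂ) →ₗ[ℂ] (Fin n → ℂ) := (Nat.card P : ℂ)⁻¹ • ∑ x : P, ρ (x : G) with hπ
  have hPne : (Nat.card P : ℂ) ≠ 0 := Nat.cast_ne_zero.2 Nat.card_pos.ne'
  have hρπ : ∀ y : P, ρ (y : G) * π = π := fun y => by
    rw [hπ, mul_smul_comm, Finset.mul_sum]
    congr 1
    refine Fintype.sum_equiv (Equiv.mulLeft y) _ _ fun x => ?_
    show ρ (y : G) * ρ (x : G) = ρ ((y * x : P) : G)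
    rw [Subgroup.coe_mul, map_mul]
  have hidem : π * π = π := by
    conv_lhs => arg 1; rw [hπ]
    rw [smul_mul_assoc, Finset.sum_mul, Finset.sum_congr rfl (fun y _ => hρπ y), Finset.sum_const,
      Finset.card_univ, ← Nat.card_eq_fintype_card, ← Nat.cast_smul_eq_nsmul ℂ, smul_smul,
      inv_mul_cancel₀ hPne, one_smul]
  have hPmat : LinearMap.toMatrix b b π = (Nat.card P : ℂ)⁻¹ • ∑ x : P, r x := by
    rw [hπ, map_smul, map_sum]
  have hπB : LinearMap.toMatrix b b π * B.1 = B.1 * (LinearMap.toMatrix b b π)ᵀ := by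
    rw [hPmat, Matrix.transpose_smul, Matrix.smul_mul, Matrix.mul_smul, Matrix.transpose_sum,
      Matrix.sum_mul, Matrix.mul_sum]
    congr 1
    refine Fintype.sum_equiv (Equiv.inv P) _ _ fun x => ?_
    show r (x : G) * B.1 = B.1 * (r ((x⁻¹ : P) : G))ᵀ
    rw [Subgroup.coe_inv]
    calc r (x : G) * B.1 = r (x : G) * B.1 * (r (x : G)⁻¹ * r (x : G))ᵀ := by
          rw [← hrmul, inv_mul_cancel, hr1, Matrix.transpose_one, Matrix.mul_one]
      _ = (r (x : G) * B.1 * (r (x : G))ᵀ) * (r (x : G)⁻¹)ᵀ := by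
          rw [Matrix.transpose_mul]; simp only [Matrix.mul_assoc]
      _ = _ := by rw [hB]
  -- the fixed space
  set W := LinearMap.range π with hW
  set bW := Module.finBasis ℂ W with hbW
  set E := LinearMap.toMatrix bW b W.subtype with hE
  set F := LinearMap.toMatrix b bW π.rangeRestrict with hF
  have hEF : E * F = LinearMap.toMatrix b b π := by
    rw [hE, hF, ← LinearMap.toMatrix_comp b bW b]
    rfl
  have hFE : F * E = 1 := by
    rw [hE, hF, ← LinearMap.toMatrix_comp bW b bW]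
    rw [show π.rangeRestrict.comp W.subtype = LinearMap.id from LinearMap.ext fun w => Subtype.ext (by
      obtain ⟨v, hv⟩ := w.2
      show π (w : Fin n → ℂ) = w
      rw [← hv]
      exact LinearMap.congr_fun hidem v)]
    exact LinearMap.toMatrix_id bW
  have htr : (Module.finrank ℂ W : ℂ) = (c : ℂ) := by
    rw [← hc, ← Fintype.card_fin (Module.finrank ℂ W), ← Matrix.trace_one, ← hFE, Matrix.trace_mul_comm,
      hEF, ← LinearMap.trace_eq_matrix_trace ℂ b, hπ, map_smul, map_sum, smul_eq_mul]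
    rfl
  rw [← (Nat.cast_injective (R := ℂ) htr)]
  have hskew : (F * B.1 * Fᵀ)ᵀ = -(F * B.1 * Fᵀ) := by
    rw [Matrix.transpose_mul, Matrix.transpose_mul, Matrix.transpose_transpose, hBT, neg_one_smul,
      Matrix.neg_mul, Matrix.mul_neg, Matrix.mul_assoc]
  have hinv : (F * B.1 * Fᵀ) * (Eᵀ * (↑B⁻¹ : Matrix (Fin n) (Fin n) ℂ) * E) = 1 := by
    calc (F * B.1 * Fᵀ) * (Eᵀ * (↑B⁻¹ : Matrix (Fin n) (Fin n) ℂ) * E)
        = F * (B.1 * (E * F)ᵀ) * (↑B⁻¹ : Matrix (Fin n) (Fin n) ℂ) * E := by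
          rw [Matrix.transpose_mul]; simp only [Matrix.mul_assoc]
      _ = F * ((E * F) * B.1) * (↑B⁻¹ : Matrix (Fin n) (Fin n) ℂ) * E := by rw [hEF, hπB]
      _ = (F * E) * (F * E) := by
          simp only [Matrix.mul_assoc]
          rw [← Matrix.mul_assoc B.1, Units.mul_inv, Matrix.one_mul]
      _ = 1 := by rw [hFE, Matrix.one_mul]
  have hu : IsUnit (F * B.1 * Fᵀ) := IsUnit.of_mul_eq_one _ hinv
  simpa using even_card_of_skew hu hskew

end CfsgLib.RealAbove
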